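import Cfsg.Agent.H873.Tits.End
import Cfsg.Agent.H500.SocleSimple

/-!
# S3414, E3, global half: the minimal normal subgroups of `G`

* `flag_trans` : a normal subgroup `M ≠ 1` of a group without normal subgroups of odd order is flag transitive, if the parameters
  are even;
* `exists_simple` : if a prime `p` divides the number of chambers and `p²` does not divide `|G|`, there is a non-abelian simple
  normal subgroup, and its order is divisible by the number of chambers.
-/

set_option autoImplicit false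
set_option linter.unusedSectionVars false

namespace Cfsg.Agent.H482.Tits

open Subgroup Cfsg.Agent.H873.Tits

universe u v

/-! ### Minimal normal subgroups -/

theorem simple_of_minimal {G : Type u} [Group G] [Finite G] (N : Subgroup G) [N.Normal] (hN : N ≠ ⊥)
    (hmin : ∀ M : Subgroup G, M.Normal → M ≤ N → M = ⊥ ∨ M = N) {p : ℕ} (hp : p.Prime) (hd : p ∣ Nat.card N)
    (hd2 : ¬ p ^ 2 ∣ Nat.card G) : IsSimpleGroup ↥N := by
  obtain ⟨T, m, hT, hs, hm, ⟨e⟩⟩ := Cfsg.Agent.Lib.MinNormal.exists_mulEquiv_pi N hN hmin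
  have h1 : Nat.card N = Nat.card T ^ m := by
    rw [Nat.card_congr e.toEquiv, Nat.card_fun, Nat.card_fin]
  have h2 : p ∣ Nat.card T := by
    rw [h1] at hd
    exact hp.dvd_of_dvd_pow hd
  have h3 : m = 1 := by
    by_contra h
    apply hd2
    have h4 : 2 ≤ m := by omega
    exact (pow_dvd_pow p h4).trans ((pow_dvd_pow_of_dvd h2 m).trans (h1 ▸ card_subgroup_dvd_card N))
  subst h3
  have e2 : (Fin 1 → T) ≃* T := {
    toFun := fun f => f 0
    invFun := fun t _ => t
    left_inv := fun f => by funext i; rw [Subsingleton.elim i 0]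
    right_inv := fun t => rfl
    map_mul' := fun f g => rfl }
  exact (e.trans e2).isSimpleGroup

variable {G : Type u} [Group G] {V : Type v} [MulAction G V] (P : Pol G V)

/-! ### Paths -/

/-- a third neighbour -/
theorem exists_third (v a b : V) : ∃ c, P.adj v c ∧ c ≠ a ∧ c ≠ b := by
  classical
  by_contra h
  push Not at h
  have h1 : Nat.card {w : V // P.adj v w} = P.q (P.tp v) + 1 := P.card_nb v
  have h2 := P.two_le (P.tp v)
  have hfin : Finite {w : V // P.adj v w} := Nat.finite_of_card_ne_zero (by omega)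
  have h3 : Nat.card {w : V // P.adj v w} ≤ 2 := by
    have hsub : {w : V | P.adj v w} ⊆ ({a, b} : Set V) := by
      intro c hc
      by_cases hca : c = a
      · exact Or.inl hca
      · exact Or.inr (h c hc hca)
    have h4 := Set.ncard_le_ncard hsub (Set.toFinite _)
    have h5 : ({a, b} : Set V).ncard ≤ 2 := (Set.ncard_insert_le a {b}).trans (by rw [Set.ncard_singleton])
    exact h4.trans h5
  omega

/-- the last vertex of a path of length `k + 1` can be replaced -/
theorem path_update {k : ℕ} {p : ℕ → V} (hp : IsPath P.adj (k + 1) p) {c : V} (hc : P.adj (p k) c)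
    (hc' : 1 ≤ k → c ≠ p (k - 1)) : IsPath P.adj (k + 1) (fun i => if i = k + 1 then c else p i) := by
  constructor
  · intro i hi
    by_cases h : i = k
    · subst h
      dsimp only
      rw [if_neg (by omega), if_pos rfl]
      exact hc
    · dsimp only
      rw [if_neg (by omega), if_neg (by omega)]
      exact hp.1 i hi
  · intro i hi
    by_cases h : i + 2 = k + 1
    · dsimp only
      rw [if_pos h, if_neg (by omega)]
      have h1 := hc' (by omega)
      have h2 : k - 1 = i := by omega
      rwa [h2] at h1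
    · dsimp only
      rw [if_neg h, if_neg (by omega)]
      exact hp.2 i hi

theorem path_two {a b c : V} (h1 : P.adj a b) (h2 : P.adj b c) (h3 : c ≠ a) :
    IsPath P.adj 2 (fun i => if i = 0 then a else if i = 1 then b else c) := by
  constructor
  · intro i hi
    have : i = 0 ∨ i = 1 := by omega
    rcases this with rfl | rfl
    · simpa using h1
    · simpa using h2
  · intro i hi
    have : i = 0 := by omega
    subst this
    simpa using h3

/-- a vertex is determined by two of its neighbours -/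
theorem eq_of_two {y y' a b : V} (hab : a ≠ b) (h1 : P.adj a y) (h2 : P.adj y b) (h1' : P.adj a y') (h2' : P.adj y' b) :
    y = y' := by
  have hn : 4 ≤ P.n := by rcases P.hn with h | h | h <;> omega
  have h := P.path_unique (path_two P h1 h2 hab.symm) (path_two P h1' h2' hab.symm) (by simp) (by simp) (by omega)
  have h3 := h.2 1 (by omega)
  simpa using h3

/-- the graph is connected -/
theorem connected {C : V → Prop} {v : V} (hv : C v) (h : ∀ a b, P.adj a b → C a → C b) (w : V) : C w := by
  obtain ⟨k, -, p, hp, h0, h1⟩ := P.exists_path v w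
  have key : ∀ i, i ≤ k → C (p i) := by
    intro i
    induction i with
    | zero => intro _; rw [h0]; exact hv
    | succ i ih => intro hi; exact h _ _ (hp.1 i (by omega)) (ih (by omega))
  rw [← h1]
  exact key k le_rfl

theorem trans_v {v w : V} (h : P.tp v = P.tp w) : ∃ g : G, g • v = w := by
  obtain ⟨g, hg⟩ := P.trans (k := 0) (p := fun _ => v) (p' := fun _ => w) (Nat.zero_le _)
    ⟨fun i hi => by omega, fun i hi => by omega⟩ ⟨fun i hi => by omega, fun i hi => by omega⟩ h
  exact ⟨g, hg 0 le_rfl⟩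

/-! ### Normal subgroups -/

section Nor

variable {M : Subgroup G} [hM : M.Normal] (F : Facts P)

/-- `M` is transitive on the neighbours of `v`, in the stabilizer of `v` -/
def Tr (P : Pol G V) (M : Subgroup G) (v : V) : Prop :=
  ∀ a b, P.adj v a → P.adj v b → ∃ m ∈ M, m • v = v ∧ m • a = b

include F in
theorem tr_or (v : V) : Tr P M v ∨ M ⊓ P.S v ≤ P.K v := by
  by_cases h : M ⊓ P.S v ≤ P.K v
  · exact Or.inr h
  left
  obtain ⟨m, hm, hmK⟩ := SetLike.not_le_iff_exists.1 h
  have hmv : m • v = v := hm.2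
  rw [P.mem_K] at hmK
  push Not at hmK
  obtain ⟨a₀, ha₀, hne⟩ := hmK hmv
  have hadj : P.adj v (m • a₀) := by
    have := P.smul_adj m ha₀
    rwa [hmv] at this
  intro a b ha hb
  by_cases hab : a = b
  · subst hab
    exact ⟨1, M.one_mem, one_smul _ _, one_smul _ _⟩
  obtain ⟨g, hg, h1, h2⟩ := F.two_trans ha₀ hadj hne.symm ha hb hab
  have hgv : g • v = v := hg
  refine ⟨g * m * g⁻¹, hM.conj_mem m hm.1 g, ?_, ?_⟩
  · rw [mul_smul, mul_smul, inv_smul_eq_iff.2 hgv.symm, hmv, hgv]
  · rw [mul_smul, mul_smul, inv_smul_eq_iff.2 h1.symm, h2]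

theorem Tr.smul {v : V} (h : Tr P M v) (g : G) : Tr P M (g • v) := by
  intro a b ha hb
  have ha' : P.adj v (g⁻¹ • a) := by
    have := P.smul_adj g⁻¹ ha
    rwa [inv_smul_smul] at this
  have hb' : P.adj v (g⁻¹ • b) := by
    have := P.smul_adj g⁻¹ hb
    rwa [inv_smul_smul] at this
  obtain ⟨m, hm, h1, h2⟩ := h _ _ ha' hb'
  refine ⟨g * m * g⁻¹, hM.conj_mem m hm g, ?_, ?_⟩
  · rw [mul_smul, mul_smul, inv_smul_smul, h1]
  · rw [mul_smul, mul_smul, h2, smul_inv_smul]

theorem Tr.of_tp {v w : V} (h : Tr P M v) (e : P.tp v = P.tp w) : Tr P M w := by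
  obtain ⟨g, rfl⟩ := trans_v P e
  exact h.smul P g

theorem not_tr {v : V} (h : M ⊓ P.S v ≤ P.K v) : ¬ Tr P M v := by
  intro ht
  obtain ⟨a, ha, -, -⟩ := exists_third P v v v
  obtain ⟨b, hb, hba, -⟩ := exists_third P v a a
  obtain ⟨m, hm, h1, h2⟩ := ht a b ha hb
  have h3 := (h ⟨hm, h1⟩).2 a ha
  exact hba (by rw [← h2, h3])

/-- case (2) -/
theorem case_two {x : V} (hx : Tr P M x) (hy : ∀ y, P.tp y ≠ P.tp x → M ⊓ P.S y ≤ P.K y) : M = ⊥ := by
  -- `M` fixes all the vertices of the type of `x`
  have key : ∀ z, P.tp z = P.tp x → ∀ m ∈ M, m • z = z := by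
    intro z hz m hm
    by_contra hne
    obtain ⟨k, hk, p, hp, h0, h1⟩ := P.exists_path z (m • z)
    obtain ⟨k, rfl⟩ : ∃ j, k = j + 1 := by
      refine ⟨k - 1, ?_⟩
      by_contra h
      have : k = 0 := by omega
      subst this
      exact hne (by rw [← h1, h0])
    -- a third neighbour
    obtain ⟨c, hc, hc1, hc2⟩ := exists_third P (p k) (p (k - 1)) (m • z)
    have hp' := path_update P hp hc (fun _ => hc1)
    obtain ⟨g, hg⟩ := P.trans (by omega) hp hp' (by rw [if_neg (by omega)])
    have hg0 : g • z = z := by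
      have := hg 0 (Nat.zero_le _)
      rwa [if_neg (by omega), h0] at this
    have hg1 : g • (m • z) = c := by
      have := hg (k + 1) le_rfl
      rwa [if_pos rfl, h1] at this
    -- `c = m' (m z)`
    set m' := g * m * g⁻¹ * m⁻¹ with hm'
    have hm'M : m' ∈ M := M.mul_mem (hM.conj_mem m hm g) (M.inv_mem hm)
    have e1 : m' • (m • z) = c := by
      rw [hm', mul_smul, inv_smul_smul, mul_smul, mul_smul, inv_smul_eq_iff.2 hg0.symm, hg1]
    have hadj1 : P.adj (p k) (m • z) := by
      have := hp.1 k (by omega)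
      rwa [h1] at this
    have htc : P.tp c = P.tp x := by rw [← e1, P.smul_tp, P.smul_tp, hz]
    have htr : Tr P M c := hx.of_tp P htc.symm
    have hadj2 : P.adj c (m' • p k) := by
      have := P.smul_adj m' (P.symm hadj1)
      rwa [e1] at this
    obtain ⟨m'', hm''M, h2, h3⟩ := htr (m' • p k) (p k) hadj2 (P.symm hc)
    have hty : P.tp (p k) ≠ P.tp x := by
      rw [P.tp_adj (P.symm hc), htc]
      cases P.tp x <;> simp
    have h4 := hy (p k) hty (show m'' * m' ∈ M ⊓ P.S (p k) from
      ⟨M.mul_mem hm''M hm'M, (by rw [mul_smul, h3] : (m'' * m') • p k = p k)⟩)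
    have h5 := h4.2 (m • z) hadj1
    rw [mul_smul, e1, h2] at h5
    exact hc2 h5
  refine (Subgroup.eq_bot_iff_forall _).2 fun m hm => P.faithful m fun v => ?_
  by_cases hv : P.tp v = P.tp x
  · exact key v hv m hm
  · obtain ⟨a, ha, -, -⟩ := exists_third P v v v
    obtain ⟨b, hb, hba, -⟩ := exists_third P v a a
    have hta : P.tp a = P.tp x := by
      rw [P.tp_adj ha]
      revert hv
      cases P.tp v <;> cases P.tp x <;> simp
    have htb : P.tp b = P.tp x := by
      rw [P.tp_adj hb]
      revert hv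
      cases P.tp v <;> cases P.tp x <;> simp
    have h1 := P.smul_adj m ha
    have h2 := P.smul_adj m hb
    rw [key a hta m hm] at h1
    rw [key b htb m hm] at h2
    exact (eq_of_two P hba.symm (P.symm ha) hb (P.symm h1) h2).symm

/-- case (3): `M` is semiregular -/
theorem case_three (h : ∀ v, M ⊓ P.S v ≤ P.K v) (v : V) : M ⊓ P.S v = ⊥ := by
  refine (Subgroup.eq_bot_iff_forall _).2 fun m hm => P.faithful m fun w => ?_
  refine connected P (C := fun w => m • w = w) (v := v) hm.2 (fun a b hab ha => ?_) w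
  exact (h a ⟨hm.1, ha⟩).2 b hab

/-- case (1): `M` is flag transitive -/
theorem case_one (h : ∀ v, Tr P M v) {x y x' y' : V} (hxy : P.adj x y) (hxy' : P.adj x' y') (ht : P.tp x = P.tp x') :
    ∃ m ∈ M, m • x = x' ∧ m • y = y' := by
  -- all flags containing a vertex in the orbit
  have key : ∀ w, ∀ w', P.adj w w' → ∃ m ∈ M, (P.tp w = P.tp x → m • x = w ∧ m • y = w') ∧
      (P.tp w ≠ P.tp x → m • y = w ∧ m • x = w') := by
    refine connected P (C := fun w => ∀ w', P.adj w w' → ∃ m ∈ M, (P.tp w = P.tp x → m • x = w ∧ m • y = w') ∧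
      (P.tp w ≠ P.tp x → m • y = w ∧ m • x = w')) (v := x) ?_ ?_
    · intro w' hw'
      obtain ⟨m, hm, h1, h2⟩ := h x y w' hxy hw'
      exact ⟨m, hm, fun _ => ⟨h1, h2⟩, fun h => absurd rfl h⟩
    · intro a b hab ih w' hw'
      obtain ⟨m, hm, h1, h2⟩ := ih b hab
      obtain ⟨m', hm', h3, h4⟩ := h b a w' (P.symm hab) hw'
      have hne : P.tp b = !P.tp a := P.tp_adj hab
      refine ⟨m' * m, M.mul_mem hm' hm, fun hb => ?_, fun hb => ?_⟩
      · have ha : P.tp a ≠ P.tp x := by
          rw [← hb, hne]; cases P.tp a <;> simp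
        obtain ⟨h5, h6⟩ := h2 ha
        rw [mul_smul, mul_smul, h5, h6, h3, h4]
        exact ⟨rfl, rfl⟩
      · have ha : P.tp a = P.tp x := by
          revert hb
          rw [hne]
          cases P.tp a <;> cases P.tp x <;> simp
        obtain ⟨h5, h6⟩ := h1 ha
        rw [mul_smul, mul_smul, h5, h6, h3, h4]
        exact ⟨rfl, rfl⟩
  obtain ⟨m, hm, h1, -⟩ := key x' y' hxy'
  exact ⟨m, hm, h1 ht.symm⟩

end Nor

/-- the number of chambers divides the order of a flag transitive subgroup -/
theorem dvd_of_trans [Finite G] (E : FactsE P) {M : Subgroup G} {x y : V} (hxy : P.adj x y)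
    (h : ∀ x' y' : V, P.adj x' y' → P.tp x = P.tp x' → ∃ m ∈ M, m • x = x' ∧ m • y = y') :
    ch P.n (P.q true) (P.q false) ∣ Nat.card ↥M := by
  have h1 := E.index_B hxy
  have h2 : (P.S x ⊓ P.S y).relIndex M = (P.S x ⊓ P.S y).index := by
    apply le_antisymm
    · rw [← relIndex_top_right (P.S x ⊓ P.S y)]
      exact relIndex_le_of_le_right le_top (by rw [relIndex_top_right]; exact index_ne_zero_of_finite)
    · -- surjectivity
      rw [Subgroup.relIndex, Subgroup.index, Subgroup.index]
      have : Function.Surjective (fun a : ↥M ⧸ (P.S x ⊓ P.S y).subgroupOf M =>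
          Quotient.map' (s₁ := QuotientGroup.leftRel ((P.S x ⊓ P.S y).subgroupOf M))
            (s₂ := QuotientGroup.leftRel (P.S x ⊓ P.S y)) (fun m : ↥M => (m : G))
            (fun a b hab => by
              rw [QuotientGroup.leftRel_apply] at hab ⊢
              exact hab) a) := by
        intro b
        induction b using QuotientGroup.induction_on with
        | H g =>
          obtain ⟨m, hm, h3, h4⟩ := h (g • x) (g • y) (P.smul_adj g hxy) (P.smul_tp g x).symm
          refine ⟨((⟨m, hm⟩ : ↥M) : ↥M ⧸ (P.S x ⊓ P.S y).subgroupOf M), ?_⟩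
          change ((m : G) : G ⧸ (P.S x ⊓ P.S y)) = (g : G ⧸ (P.S x ⊓ P.S y))
          rw [QuotientGroup.eq, Subgroup.mem_inf, MulAction.mem_stabilizer_iff, MulAction.mem_stabilizer_iff,
            mul_smul, mul_smul, ← h3, ← h4, inv_smul_smul, inv_smul_smul]
          exact ⟨rfl, rfl⟩
      exact Nat.card_le_card_of_surjective _ this
  rw [← h1, ← h2]
  exact relIndex_dvd_card _ _

theorem exists_edge (b : Bool) : ∃ x y : V, P.adj x y ∧ P.tp x = b := by
  obtain ⟨v⟩ := P.nonempty
  obtain ⟨w, hw, -, -⟩ := exists_third P v v v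
  by_cases h : P.tp v = b
  · exact ⟨v, w, hw, h⟩
  · refine ⟨w, v, P.symm hw, ?_⟩
    rw [P.tp_adj hw]
    revert h
    cases P.tp v <;> cases b <;> simp

/-- **A nontrivial normal subgroup is flag transitive.** -/
theorem flag_trans [Finite G] (F : Facts P) (E : FactsE P) (hO : NoOdd G) (h2 : ∀ b, 2 ∣ P.q b) {M : Subgroup G}
    [hM : M.Normal] (hM1 : M ≠ ⊥) {x y x' y' : V} (hxy : P.adj x y) (hxy' : P.adj x' y') (ht : P.tp x = P.tp x') :
    ∃ m ∈ M, m • x = x' ∧ m • y = y' := by
  by_cases hall : ∀ v, Tr P M v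
  · exact case_one P hall hxy hxy' ht
  exfalso
  push Not at hall
  obtain ⟨v, hv⟩ := hall
  have hK : ∀ w, P.tp w = P.tp v → M ⊓ P.S w ≤ P.K w := by
    intro w hw
    rcases tr_or P F (M := M) w with h | h
    · exact absurd (h.of_tp P hw) hv
    · exact h
  by_cases hex : ∃ w, Tr P M w
  · obtain ⟨w, hw⟩ := hex
    apply hM1
    refine case_two P hw fun y hy => hK y ?_
    have h1 : P.tp w ≠ P.tp v := fun h => hv (hw.of_tp P h)
    revert hy h1
    cases P.tp y <;> cases P.tp w <;> cases P.tp v <;> simp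
  · push Not at hex
    have h3 : ∀ w, M ⊓ P.S w ≤ P.K w := fun w => (tr_or P F (M := M) w).resolve_left (hex w)
    have h4 := case_three P h3 v
    have h5 : Nat.card ↥M ∣ (P.S v).index := by
      have e1 : M.relIndex (P.S v ⊔ M) = Nat.card ↥(P.S v) := by
        rw [relIndex_sup_right, ← inf_relIndex_right, h4, relIndex_bot_left]
      have e2 : M.relIndex (P.S v ⊔ M) * Nat.card ↥M = Nat.card ↥(P.S v ⊔ M) := by
        rw [← relIndex_bot_left, ← relIndex_bot_left, mul_comm]
        exact relIndex_mul_relIndex _ _ _ bot_le le_sup_right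
      have e3 : Nat.card ↥(P.S v ⊔ M) ∣ Nat.card G := card_subgroup_dvd_card _
      rw [← e2, e1, ← card_mul_index (P.S v)] at e3
      exact Nat.dvd_of_mul_dvd_mul_left Nat.card_pos e3
    have h6 := E.index_S v
    have h7 : ¬ 2 ∣ (P.S v).index := by
      have hodd : ∀ m : ℕ, 1 ≤ m → ¬ 2 ∣ ∑ i ∈ Finset.range m, (P.q true * P.q false) ^ i := by
        intro m hm
        obtain ⟨m, rfl⟩ : ∃ j, m = j + 1 := ⟨m - 1, by omega⟩
        rw [Finset.sum_range_succ', pow_zero]
        have h8 : 2 ∣ ∑ i ∈ Finset.range m, (P.q true * P.q false) ^ (i + 1) :=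
          Finset.dvd_sum fun i _ => (Dvd.dvd.mul_right (h2 true) _).trans (dvd_pow_self _ (Nat.succ_ne_zero i))
        omega
      have hS := hodd (P.n / 2) (by rcases P.hn with h | h | h <;> rw [h] <;> norm_num)
      have ho : ∀ b, ¬ 2 ∣ 1 + P.q b := fun b => by have := h2 b; omega
      intro h8
      have h9 : 2 ∣ ch P.n (P.q true) (P.q false) := by
        rw [← h6]; exact Dvd.dvd.mul_right h8 _
      unfold ch at h9
      rcases (Nat.prime_two.dvd_mul).1 h9 with h10 | h10
      · rcases (Nat.prime_two.dvd_mul).1 h10 with h11 | h11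
        · exact ho _ h11
        · exact ho _ h11
      · exact hS h10
    exact hM1 (hO.1 M hM fun h => h7 (h.trans h5))

theorem dvd_card [Finite G] (F : Facts P) (E : FactsE P) (hO : NoOdd G) (h2 : ∀ b, 2 ∣ P.q b) {M : Subgroup G}
    [hM : M.Normal] (hM1 : M ≠ ⊥) : ch P.n (P.q true) (P.q false) ∣ Nat.card ↥M := by
  obtain ⟨x, y, hxy, -⟩ := exists_edge P true
  exact dvd_of_trans P E hxy fun x' y' h h' => flag_trans P F E hO h2 hM1 hxy h h'

/-- **The simple normal subgroup.** -/
theorem exists_simple [Finite G] (F : Facts P) (E : FactsE P) (hO : NoOdd G) (h2 : ∀ b, 2 ∣ P.q b) {p : ℕ}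
    (hp : p.Prime) (hd : p ∣ ch P.n (P.q true) (P.q false)) (hd2 : ¬ p ^ 2 ∣ Nat.card G) :
    ∃ T : Subgroup G, T.Normal ∧ IsSimpleGroup ↥T ∧ ¬ IsMulCommutative ↥T ∧
      ch P.n (P.q true) (P.q false) ∣ Nat.card ↥T ∧ Subgroup.centralizer (T : Set G) = ⊥ := by
  classical
  have hch : 1 < ch P.n (P.q true) (P.q false) := by
    have h1 := P.two_le true
    have h3 := P.two_le false
    have h4 : 1 ≤ ∑ i ∈ Finset.range (P.n / 2), (P.q true * P.q false) ^ i := by
      obtain ⟨m, hm⟩ : ∃ j, P.n / 2 = j + 1 := ⟨P.n / 2 - 1, by rcases P.hn with h | h | h <;> rw [h] <;> norm_num⟩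
      rw [hm, Finset.sum_range_succ', pow_zero]
      omega
    unfold ch
    calc 1 < 3 * 3 * 1 := by norm_num
      _ ≤ _ := Nat.mul_le_mul (Nat.mul_le_mul (by omega) (by omega)) h4
  have hG : (⊤ : Subgroup G) ≠ ⊥ := by
    intro h
    have h1 : Subgroup.center G = ⊥ := hO.2
    have h3 : Nat.card G = 1 := by
      rw [← Subgroup.card_top, h, Subgroup.card_bot]
    obtain ⟨x, y, hxy, -⟩ := exists_edge P true
    have h4 := E.index_B hxy
    have h5 : (P.S x ⊓ P.S y).index ∣ Nat.card G := Subgroup.index_dvd_card _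
    rw [h4, h3] at h5
    have := Nat.le_of_dvd one_pos h5
    omega
  obtain ⟨T, hT, hT1, -, hmin⟩ := Cfsg.Agent.H500.exists_minimal_normal (⊤ : Subgroup G) inferInstance hG
  have hdT := dvd_card P F E hO h2 hT1
  have hs : IsSimpleGroup ↥T := simple_of_minimal T hT1 hmin hp (hd.trans hdT) hd2
  -- `T` is not commutative
  have hna : ¬ IsMulCommutative ↥T := by
    intro hc
    have hc' : IsMulCommutative ↥T := hc
    have hpr : (Nat.card ↥T).Prime := by
      let _ : CommGroup ↥T := { (inferInstance : Group ↥T) with mul_comm := fun a b => hc'.is_comm.comm a b }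
      exact IsSimpleGroup.prime_card
    have h3 : ch P.n (P.q true) (P.q false) = Nat.card ↥T := (hpr.eq_one_or_self_of_dvd _ hdT).resolve_left (by omega)
    rw [← h3] at hpr
    unfold ch at hpr
    have h1 := P.two_le true
    have h4 := P.two_le false
    have h5 : 1 ≤ ∑ i ∈ Finset.range (P.n / 2), (P.q true * P.q false) ^ i := by
      obtain ⟨m, hm⟩ : ∃ j, P.n / 2 = j + 1 := ⟨P.n / 2 - 1, by rcases P.hn with h | h | h <;> rw [h] <;> norm_num⟩
      rw [hm, Finset.sum_range_succ', pow_zero]
      omega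
    rw [mul_assoc] at hpr
    exact Nat.not_prime_mul (by omega) (by nlinarith) hpr
  refine ⟨T, hT, hs, hna, hdT, ?_⟩
  by_contra hC
  have hCn : (Subgroup.centralizer (T : Set G)).Normal := inferInstance
  have h3 := dvd_card P F E hO h2 (M := Subgroup.centralizer (T : Set G)) hC
  -- `T ⊓ C(T) = 1`
  have h4 : T ⊓ Subgroup.centralizer (T : Set G) = ⊥ := by
    rcases hmin (T ⊓ Subgroup.centralizer (T : Set G)) inferInstance inf_le_left with h | h
    · exact h
    · exfalso
      apply hna
      refine ⟨⟨fun a b => Subtype.ext ?_⟩⟩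
      have h5 : (b : G) ∈ Subgroup.centralizer (T : Set G) := by
        have : (b : G) ∈ T ⊓ Subgroup.centralizer (T : Set G) := by rw [h]; exact b.2
        exact this.2
      exact Subgroup.mem_centralizer_iff.1 h5 a a.2
  have e1 : T.relIndex (Subgroup.centralizer (T : Set G) ⊔ T) = Nat.card ↥(Subgroup.centralizer (T : Set G)) := by
    rw [relIndex_sup_right, ← inf_relIndex_right, h4, relIndex_bot_left]
  have e2 : T.relIndex (Subgroup.centralizer (T : Set G) ⊔ T) * Nat.card ↥T =
      Nat.card ↥(Subgroup.centralizer (T : Set G) ⊔ T) := by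
        rw [← relIndex_bot_left, ← relIndex_bot_left, mul_comm]
        exact relIndex_mul_relIndex _ _ _ bot_le le_sup_right
  have e3 : Nat.card ↥(Subgroup.centralizer (T : Set G) ⊔ T) ∣ Nat.card G := card_subgroup_dvd_card _
  rw [← e2, e1] at e3
  apply hd2
  rw [pow_two]
  exact (Nat.mul_dvd_mul (hd.trans h3) (hd.trans hdT)).trans e3

end Cfsg.Agent.H482.Tits
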